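import Groth.Prelude.Def_Hyper
import Groth.Prelude.Def_Hyper2
import Mathlib.CategoryTheory.Sites.Sheafification
import Mathlib.CategoryTheory.Sites.LocallyBijective

/-!
# Killing Cech cochains of presheaves with zero associated sheaf
-/

set_option autoImplicit false
universe u
open CategoryTheory CategoryTheory.Limits Opposite

namespace Groth.Agent.Topos.H568.CechKill

variable {C : Type u} [SmallCategory C]

/-- A presheaf of abelian groups whose associated sheaf is zero has locally zero sections. -/
theorem zeroSieve_mem (J : GrothendieckTopology C) (N : Cᵒᵖ ⥤ AddCommGrpCat.{u})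
    (hN : IsZero ((presheafToSheaf J AddCommGrpCat.{u}).obj N)) (U : C) (x : N.obj (op U)) :
    Presheaf.equalizerSieve (F := N) (X := op U) x 0 ∈ J U := by
  have h0 : IsZero ((presheafToSheaf J AddCommGrpCat.{u} ⋙ sheafToPresheaf J _).obj N) :=
    (sheafToPresheaf J _).map_isZero hN
  have h1 : (toSheafify J N).app (op U) = 0 := by
    have h2 : toSheafify J N = 0 := h0.eq_of_tgt _ _
    rw [h2]
    rfl
  refine Presheaf.equalizerSieve_mem J (toSheafify J N) (X := op U) x 0 ?_
  rw [h1]
  rfl

/-- The sieve of maps on which the pullback of `x` vanishes. -/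
noncomputable def zeroSieve {X : C} (N : Cᵒᵖ ⥤ AddCommGrpCat.{u}) (A : Over X) (x : N.obj (op A.left)) :
    Sieve A where
  arrows _ h := N.map h.left.op x = 0
  downward_closed {B B'} h hh g := by
    have h1 : N.map (g ≫ h).left.op = N.map h.left.op ≫ N.map g.left.op := by
      rw [Over.comp_left, op_comp, N.map_comp]
    have h2 : N.map h.left.op x = 0 := hh
    change N.map (g ≫ h).left.op x = 0
    rw [h1]
    change N.map g.left.op (N.map h.left.op x) = 0
    rw [h2, map_zero]

theorem zeroSieve_mem_over (J : GrothendieckTopology C) {X : C} (N : Cᵒᵖ ⥤ AddCommGrpCat.{u})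
    (hN : IsZero ((presheafToSheaf J AddCommGrpCat.{u}).obj N)) (A : Over X) (x : N.obj (op A.left)) :
    zeroSieve N A x ∈ (J.over X) A := by
  refine (J.over X).superset_covering ?_ (J.overEquiv_symm_mem_over A _ (zeroSieve_mem J N hN A.left x))
  intro B h hh
  have h1 : (Presheaf.equalizerSieve (F := N) (X := op A.left) x 0) h.left := hh
  have h2 : N.map h.left.op x = N.map h.left.op 0 := h1
  rw [map_zero] at h2
  exact h2

/-- The components of a section over a formal coproduct. -/
noncomputable abbrev Ev (X : C) (N : Cᵒᵖ ⥤ AddCommGrpCat.{u}) :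
    (FormalCoproduct.{u} (Over X))ᵒᵖ ⥤ AddCommGrpCat.{u} :=
  (FormalCoproduct.evalOp.{u} (Over X) AddCommGrpCat.{u}).obj ((Over.forget X).op ⋙ N)

/-- The projection of a section over a formal coproduct to a component. -/
noncomputable def comp (X : C) (N : Cᵒᵖ ⥤ AddCommGrpCat.{u}) (A : FormalCoproduct.{u} (Over X))
    (i : A.I) : (Ev X N).obj (op A) ⟶ N.obj (op (A.obj i).left) :=
  Pi.π (fun i : A.I => ((Over.forget X).op ⋙ N).obj (op (A.obj i))) i

theorem map_comp (X : C) (N : Cᵒᵖ ⥤ AddCommGrpCat.{u}) {A B : FormalCoproduct.{u} (Over X)}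
    (f : A ⟶ B) (i : A.I) :
    (Ev X N).map f.op ≫ comp X N A i = comp X N B (f.f i) ≫ N.map (f.φ i).left.op := by
  exact Pi.lift_π _ _

theorem ext_zero (X : C) (N : Cᵒᵖ ⥤ AddCommGrpCat.{u}) (A : FormalCoproduct.{u} (Over X))
    (z : (Ev X N).obj (op A)) (h : ∀ i, comp X N A i z = 0) : z = 0 := by
  refine Concrete.limit_ext _ z 0 ?_
  rintro ⟨i⟩
  rw [map_zero]
  exact h i

variable (J : GrothendieckTopology C) {X : C} (N : Cᵒᵖ ⥤ AddCommGrpCat.{u})

/-- The formal coproduct of all the members of the sieves `zeroSieve`. -/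
noncomputable def killZ (A : FormalCoproduct.{u} (Over X)) (z : (Ev X N).obj (op A)) :
    FormalCoproduct.{u} (Over X) where
  I := Σ (i : A.I) (B : Over X), {h : B ⟶ A.obj i // zeroSieve N (A.obj i) (comp X N A i z) h}
  obj t := t.2.1

/-- The projection to `A`. -/
noncomputable def killu (A : FormalCoproduct.{u} (Over X)) (z : (Ev X N).obj (op A)) :
    killZ N A z ⟶ A where
  f t := t.1
  φ t := t.2.2.1

theorem isSRCovering_killu (hN : IsZero ((presheafToSheaf J AddCommGrpCat.{u}).obj N))
    (A : FormalCoproduct.{u} (Over X)) (z : (Ev X N).obj (op A)) :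
    Hyper.IsSRCovering (J.over X) (killu N A z) := by
  intro j
  refine (J.over X).superset_covering ?_ (zeroSieve_mem_over J N hN (A.obj j) (comp X N A j z))
  intro B h hh
  have h1 : (killu N A z).φ ⟨j, B, h, hh⟩ ≫ eqToHom (congrArg A.obj rfl) = h :=
    Category.comp_id _
  refine ⟨B, 𝟙 B, (killu N A z).φ ⟨j, B, h, hh⟩ ≫ eqToHom (congrArg A.obj rfl), ?_,
    (Category.id_comp _).trans h1⟩
  exact Presieve.ofArrows.mk (Y := fun i : {i : (killZ N A z).I // (killu N A z).f i = j} =>
      (killZ N A z).obj i.1)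
    (f := fun i => (killu N A z).φ i.1 ≫ eqToHom (congrArg A.obj i.2)) ⟨⟨j, B, h, hh⟩, rfl⟩

theorem map_killu (A : FormalCoproduct.{u} (Over X)) (z : (Ev X N).obj (op A)) :
    (Ev X N).map (killu N A z).op z = 0 := by
  refine ext_zero X N _ _ ?_
  intro t
  have h1 := ConcreteCategory.congr_hom (map_comp X N (killu N A z) t) z
  exact h1.trans t.2.2.2

/-- A map which factors through `killu` kills the section. -/
theorem map_eq_zero_of_fac {A B : FormalCoproduct.{u} (Over X)} (z : (Ev X N).obj (op A))
    (f : B ⟶ A) (g : B ⟶ killZ N A z) (h : g ≫ killu N A z = f) : (Ev X N).map f.op z = 0 := by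
  subst h
  rw [op_comp, Functor.map_comp]
  change (Ev X N).map g.op ((Ev X N).map (killu N A z).op z) = 0
  rw [map_killu, map_zero]

/-- The class of a cocycle killed by `f_p` is killed by `f`. -/
theorem cechHMap_eq_zero {K L : SimplicialObject (FormalCoproduct.{u} (Over X))} (f : L ⟶ K) (p : ℕ)
    (z : (Hyper.cechCx X K N).cycles p)
    (h : (Ev X N).map (f.app (op (SimplexCategory.mk p))).op ((Hyper.cechCx X K N).iCycles p z) = 0) :
    Hyper.cechHMap X f N p ((Hyper.cechCx X K N).homologyπ p z) = 0 := by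
  have h1 : HomologicalComplex.cyclesMap (Hyper.cechMap X f N) p z = 0 := by
    have hinj : Function.Injective ((Hyper.cechCx X L N).iCycles p) :=
      (AddCommGrpCat.mono_iff_injective _).1 inferInstance
    apply hinj
    rw [map_zero]
    have h2 := ConcreteCategory.congr_hom
      (HomologicalComplex.cyclesMap_i (Hyper.cechMap X f N) p) z
    exact h2.trans h
  have h3 := ConcreteCategory.congr_hom
    (HomologicalComplex.homologyπ_naturality (Hyper.cechMap X f N) p) z
  refine h3.trans ?_
  change (Hyper.cechCx X L N).homologyπ p (HomologicalComplex.cyclesMap (Hyper.cechMap X f N) p z) = 0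
  rw [h1, map_zero]

/-- Every Cech class of a presheaf with zero associated sheaf dies on some refinement, given the
refinement property. -/
theorem exists_refinement (hN : IsZero ((presheafToSheaf J AddCommGrpCat.{u}).obj N))
    (K : SimplicialObject (FormalCoproduct.{u} (Over X)))
    (P : SimplicialObject (FormalCoproduct.{u} (Over X)) → Prop) (p : ℕ)
    (href : ∀ (Z : FormalCoproduct.{u} (Over X)) (u : Z ⟶ K.obj (op (SimplexCategory.mk p))),
      Hyper.IsSRCovering (J.over X) u →
      ∃ (L : SimplicialObject (FormalCoproduct.{u} (Over X))) (f : L ⟶ K)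
        (g : L.obj (op (SimplexCategory.mk p)) ⟶ Z),
        P L ∧ g ≫ u = f.app (op (SimplexCategory.mk p)))
    (ξ : Hyper.cechH X K N p) :
    ∃ (L : SimplicialObject (FormalCoproduct.{u} (Over X))) (f : L ⟶ K),
      P L ∧ Hyper.cechHMap X f N p ξ = 0 := by
  have hsurj : Function.Surjective ((Hyper.cechCx X K N).homologyπ p) :=
    (AddCommGrpCat.epi_iff_surjective _).1 inferInstance
  obtain ⟨z, rfl⟩ := hsurj ξ
  let w : (Ev X N).obj (op (K.obj (op (SimplexCategory.mk p)))) := (Hyper.cechCx X K N).iCycles p z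
  obtain ⟨L, f, g, hL, hg⟩ := href _ (killu N _ w) (isSRCovering_killu J N hN _ w)
  exact ⟨L, f, hL, cechHMap_eq_zero N f p z (map_eq_zero_of_fac N w _ g hg)⟩

end Groth.Agent.Topos.H568.CechKill
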