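import Groth.Prelude.Def_SGA4b
import Groth.Agent.EtpbcB.ClosedImmEtale
import Mathlib.AlgebraicGeometry.Morphisms.Immersion

/-!
# Direct images of étale sheaves of sets along immersions are fully faithful
-/

set_option autoImplicit false
universe u
open CategoryTheory CategoryTheory.Limits AlgebraicGeometry Opposite

namespace Groth.Agent.Topos.H568.ImmPush

open Groth.Agent.EtpbcB.ClosedImmEtale

variable {U Y : Scheme.{u}} (j : U ⟶ Y) [IsOpenImmersion j]

set_option backward.isDefEq.respectTransparency.types false in
/-- An étale `U`-scheme viewed as an étale `Y`-scheme. -/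
noncomputable def ext (W : U.Etale) : Y.Etale := Scheme.Etale.mk (W.hom ≫ j)

set_option backward.isDefEq.respectTransparency.types false in
/-- The restriction to `U` of the extension of `W` maps to `W`. -/
noncomputable def extCounit (W : U.Etale) : (EtCoh.bc j).obj (ext j W) ⟶ W :=
  MorphismProperty.Over.homMk (pullback.fst (W.hom ≫ j) j) (by
    change pullback.fst (W.hom ≫ j) j ≫ W.hom = pullback.snd (W.hom ≫ j) j
    rw [← cancel_mono j, Category.assoc, pullback.condition]) trivial

set_option backward.isDefEq.respectTransparency.types false in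
theorem isIso_extCounit (W : U.Etale) : IsIso (extCounit j W) := by
  have h : IsIso (extCounit j W).left := by
    change IsIso (pullback.fst (W.hom ≫ j) j)
    refine ⟨pullback.lift (𝟙 _) W.hom (by simp), ?_, ?_⟩
    · apply pullback.hom_ext
      · rw [Category.assoc, pullback.lift_fst, Category.comp_id, Category.id_comp]
      · rw [Category.assoc, pullback.lift_snd, Category.id_comp, ← cancel_mono j, Category.assoc,
          pullback.condition]
    · rw [pullback.lift_fst]
  exact isIso_of_isIso_left _

/-- The small étale site of an open subscheme: base change is cover dense. -/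
theorem isCoverDense_bc : (EtCoh.bc j).IsCoverDense U.smallEtaleTopology where
  is_cover W := by
    have := isIso_extCounit j W
    have h1 : (Sieve.coverByImage (EtCoh.bc j) W) = ⊤ := by
      rw [← Sieve.id_mem_iff_eq_top]
      have h2 : (Sieve.coverByImage (EtCoh.bc j) W) (extCounit j W) := Presieve.in_coverByImage _ _
      have := Sieve.downward_closed _ h2 (inv (extCounit j W))
      rwa [IsIso.inv_hom_id] at this
    rw [h1]
    exact GrothendieckTopology.top_mem _ _

set_option backward.isDefEq.respectTransparency.types false in
/-- A morphism from the restriction of `V` extends. -/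
noncomputable def extHom (V : Y.Etale) (W : U.Etale) (f : W ⟶ (EtCoh.bc j).obj V) : ext j W ⟶ V :=
  MorphismProperty.Over.homMk (f.left ≫ pullback.fst V.hom j) (by
    have h1 : f.left ≫ pullback.snd V.hom j = W.hom := Over.w f.hom
    exact (Category.assoc _ _ _).trans ((congrArg (f.left ≫ ·) pullback.condition).trans
      ((Category.assoc _ _ _).symm.trans (congrArg (· ≫ j) h1)))) trivial

set_option backward.isDefEq.respectTransparency.types false in
theorem bc_map_extHom (V : Y.Etale) (W : U.Etale) (f : W ⟶ (EtCoh.bc j).obj V) :
    (EtCoh.bc j).map (extHom j V W f) = extCounit j W ≫ f := by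
  refine MorphismProperty.Over.Hom.ext ?_
  have h1 : ((EtCoh.bc j).map (extHom j V W f)).left ≫ pullback.fst V.hom j =
      pullback.fst (ext j W).hom j ≫ (extHom j V W f).left := (EtCoh.isPullback_bc_map j _).w
  have h2 : (extCounit j W ≫ f).left = pullback.fst (W.hom ≫ j) j ≫ f.left := rfl
  have h3 : (((EtCoh.bc j).map (extHom j V W f)).left) = (extCounit j W ≫ f).left := by
    apply pullback.hom_ext
    · exact h1.trans (Category.assoc _ _ _).symm
    · exact (Over.w ((EtCoh.bc j).map (extHom j V W f)).hom).trans (Over.w (extCounit j W ≫ f).hom).symm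
  exact h3

/-- The small étale site of an open subscheme: base change is locally full. -/
theorem isLocallyFull_bc : (EtCoh.bc j).IsLocallyFull U.smallEtaleTopology where
  functorPushforward_imageSieve_mem {V₁ V₂} f := by
    let W := (EtCoh.bc j).obj V₁
    let a : ext j W ⟶ V₁ := extHom j V₁ W (𝟙 _)
    let b : ext j W ⟶ V₂ := extHom j V₂ W f
    have ha : (EtCoh.bc j).map a = extCounit j W := by
      rw [bc_map_extHom, Category.comp_id]
    have hb : (EtCoh.bc j).map b = extCounit j W ≫ f := bc_map_extHom _ _ _ _
    have := isIso_extCounit j W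
    have h1 : (Functor.imageSieve (EtCoh.bc j) f) a := ⟨b, by rw [ha, hb]⟩
    have h2 := Sieve.image_mem_functorPushforward (EtCoh.bc j) _ h1
    have h3 : (Sieve.functorPushforward (EtCoh.bc j) (Functor.imageSieve (EtCoh.bc j) f)) = ⊤ := by
      rw [← Sieve.id_mem_iff_eq_top]
      rw [ha] at h2
      have := Sieve.downward_closed _ h2 (inv (extCounit j W))
      rwa [IsIso.inv_hom_id] at this
    rw [h3]
    exact GrothendieckTopology.top_mem _ _

/-- Direct image of sheaves of sets along an open immersion is fully faithful. -/
theorem full_faithful_pushSh_of_isOpenImmersion :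
    (EtDesc.pushSh j).Full ∧ (EtDesc.pushSh j).Faithful := by
  have := isCoverDense_bc j
  have := isLocallyFull_bc j
  exact ⟨inferInstance, inferInstance⟩

omit [IsOpenImmersion j] in
/-- Direct image of sheaves of sets along a closed immersion is fully faithful. -/
theorem full_faithful_pushSh_of_isClosedImmersion [IsClosedImmersion j] :
    (EtDesc.pushSh j).Full ∧ (EtDesc.pushSh j).Faithful := by
  have := EtpbcB.ClosedImmEtale.isCoverDense_bc j
  have := EtpbcB.ClosedImmEtale.isLocallyFull_bc j
  exact ⟨inferInstance, inferInstance⟩

/-- Direct image of sheaves of sets along an immersion is fully faithful. -/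
theorem full_faithful_pushSh_of_isImmersion {X Y : Scheme.{u}} (f : X ⟶ Y) [IsImmersion f] :
    (EtDesc.pushSh f).Full ∧ (EtDesc.pushSh f).Faithful := by
  obtain ⟨h1, h2⟩ := full_faithful_pushSh_of_isClosedImmersion f.liftCoborder
  obtain ⟨h3, h4⟩ := full_faithful_pushSh_of_isOpenImmersion f.coborderRange.ι
  have e : f.liftCoborder ≫ f.coborderRange.ι = f := f.liftCoborder_ι
  let φ : EtDesc.pushSh f.liftCoborder ⋙ EtDesc.pushSh f.coborderRange.ι ≅ EtDesc.pushSh f :=
    EtDesc.pushCompSh f.coborderRange.ι f.liftCoborder ≪≫ eqToIso (by rw [e])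
  exact ⟨Functor.Full.of_iso φ, Functor.Faithful.of_iso φ⟩

/-- The counit `f^* f_* F ⟶ F` is an isomorphism for an immersion `f`. -/
theorem isIso_counit {X Y : Scheme.{u}} (f : X ⟶ Y) [IsImmersion f] (F : EtDesc.Sh X) :
    IsIso ((EtDesc.adjSh f).counit.app F) := by
  obtain ⟨h1, h2⟩ := full_faithful_pushSh_of_isImmersion f
  have h3 : IsIso (EtDesc.adjSh f).counit := inferInstance
  infer_instance

end Groth.Agent.Topos.H568.ImmPush
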